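import Groth.Agent.H29Blow.Basic
import Mathlib

/-! A finite morphism that is an isomorphism off a closed set: its conductor contains a power of the ideal. -/

set_option autoImplicit false
set_option backward.isDefEq.respectTransparency false
noncomputable section
universe u v
open CategoryTheory AlgebraicGeometry Opposite TopologicalSpace

namespace Groth.Agent.H06RAmple

theorem exists_pow_map_le_range {R : Type u} {S : Type v} [CommRing R] [CommRing S] (φ : R →+* S)
    (hfin : φ.Finite) (I : Ideal R) (hI : I.FG)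
    (h : ∀ f ∈ I, ∀ b : S, ∃ n : ℕ, φ f ^ n * b ∈ φ.range) :
    ∃ N, 0 < N ∧ ∀ y ∈ (I ^ N).map φ, y ∈ φ.range := by
  letI := φ.toAlgebra
  haveI : Module.Finite R S := hfin
  obtain ⟨s, hs⟩ := Module.Finite.fg_top (R := R) (M := S)
  let C : Ideal R :=
    { carrier := {x | ∀ b, φ x * b ∈ φ.range}
      add_mem' := fun hx hy b => by rw [map_add, add_mul]; exact add_mem (hx b) (hy b)
      zero_mem' := fun b => by rw [map_zero, zero_mul]; exact zero_mem _
      smul_mem' := fun c x hx b => by rw [smul_eq_mul, map_mul, mul_right_comm, mul_comm]; exact hx _ }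
  have hIC : I ≤ C.radical := fun f hf => by
    choose n hn using h f hf
    refine ⟨s.sup n, fun b => ?_⟩
    have hb : b ∈ Submodule.span R (s : Set S) := hs ▸ Submodule.mem_top
    induction hb using Submodule.span_induction with
    | mem b hb =>
      obtain ⟨k, hk⟩ := Nat.exists_eq_add_of_le (Finset.le_sup (f := n) hb)
      rw [hk, map_pow, pow_add, mul_right_comm, ← map_pow φ f k]
      exact mul_mem (hn b) ⟨_, rfl⟩
    | zero => rw [mul_zero]; exact zero_mem _
    | add x y _ _ hx hy => rw [mul_add]; exact add_mem hx hy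
    | smul r x _ hx =>
      rw [Algebra.smul_def, mul_left_comm]
      exact mul_mem ⟨r, rfl⟩ hx
  obtain ⟨N, hN⟩ := Ideal.exists_pow_le_of_le_radical_of_fg hIC hI
  refine ⟨N + 1, N.succ_pos, fun y hy => ?_⟩
  suffices ∀ b, y * b ∈ φ.range by simpa using this 1
  induction hy using Submodule.span_induction with
  | mem y hy =>
    obtain ⟨x, hx, rfl⟩ := hy
    exact (hN (Ideal.pow_le_pow_right N.le_succ hx) : ∀ b, φ x * b ∈ φ.range)
  | zero => intro b; rw [zero_mul]; exact zero_mem _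
  | add x z _ _ hx hz => intro b; rw [add_mul]; exact add_mem (hx b) (hz b)
  | smul c x _ hx => intro b; rw [smul_eq_mul, mul_comm c x, mul_assoc]; exact hx _

variable {X₁ X : Scheme.{u}}

theorem app_bijective_of_le (h : X₁ ⟶ X) {O : X.Opens} [IsIso (h ∣_ O)] {U : X.Opens} (hU : U ≤ O) :
    Function.Bijective (h.app U) := by
  have key : ∀ W : X.Opens, O.ι ''ᵁ (O.ι ⁻¹ᵁ U) = W → IsIso (h.app W) := by
    rintro W rfl
    have e := morphismRestrict_app h O (O.ι ⁻¹ᵁ U)
    have : IsIso ((h ∣_ O).app (O.ι ⁻¹ᵁ U)) := inferInstance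
    rw [e] at this
    haveI := this
    exact IsIso.of_isIso_comp_right (h.app (O.ι ''ᵁ (O.ι ⁻¹ᵁ U))) (X₁.presheaf.map (eqToHom (image_morphismRestrict_preimage h O (O.ι ⁻¹ᵁ U))).op)
  haveI := key U (by rw [Scheme.Hom.image_preimage_eq_opensRange_inf, Scheme.Opens.opensRange_ι]; exact inf_eq_right.2 hU)
  exact ConcreteCategory.bijective_of_isIso (h.app U)

theorem exists_pow_mul_mem_range (h : X₁ ⟶ X) [IsAffineHom h] {O : X.Opens} [IsIso (h ∣_ O)]
    {V : X.Opens} (hV : IsAffineOpen V) (f : Γ(X, V)) (hf : X.basicOpen f ≤ O) (b : Γ(X₁, h ⁻¹ᵁ V)) :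
    ∃ n : ℕ, h.app V f ^ n * b ∈ (h.app V).hom.range := by
  let W := X.basicOpen f
  haveI := hV.isLocalization_basicOpen f
  obtain ⟨c, hc⟩ := (app_bijective_of_le h hf).2
    (X₁.presheaf.map (homOfLE (h.preimage_mono (X.basicOpen_le f))).op b)
  obtain ⟨⟨c₀, _, n, rfl⟩, hn⟩ := IsLocalization.surj (Submonoid.powers f) c
  have hW : h ⁻¹ᵁ W = X₁.basicOpen (h.app V f) := Scheme.preimage_basicOpen _ _
  haveI : IsAffineHom h := inferInstance
  have h0 : X₁.presheaf.map (homOfLE (X₁.basicOpen_le (h.app V f))).op (h.app V f ^ n * b - h.app V c₀) = 0 := by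
    have e1 := congrArg (h.app W) hn
    rw [map_mul, RingHom.algebraMap_toAlgebra] at e1
    have e2 : ∀ x, h.app W (X.presheaf.map (homOfLE (X.basicOpen_le f)).op x) =
        X₁.presheaf.map (homOfLE (h.preimage_mono (X.basicOpen_le f))).op (h.app V x) := fun x =>
      congr($(h.naturality (homOfLE (X.basicOpen_le f)).op) x)
    have e3 : X₁.presheaf.map (homOfLE (h.preimage_mono (X.basicOpen_le f))).op
        (h.app V f ^ n * b - h.app V c₀) = 0 := by
      rw [map_sub, map_mul, map_pow, ← hc, sub_eq_zero]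
      erw [e2, e2, map_pow, map_pow] at e1
      rw [mul_comm]
      exact e1
    rw [show (homOfLE (X₁.basicOpen_le (h.app V f))).op = (homOfLE (h.preimage_mono (X.basicOpen_le f))).op ≫
      (homOfLE hW.ge).op from rfl, Functor.map_comp, ConcreteCategory.comp_apply, e3, map_zero]
  haveI := (hV.preimage h).isLocalization_basicOpen (h.app V f)
  obtain ⟨⟨_, m, rfl⟩, hm⟩ := (IsLocalization.map_eq_zero_iff (Submonoid.powers (h.app V f))
    Γ(X₁, X₁.basicOpen (h.app V f)) _).1 h0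
  refine ⟨m + n, f ^ m * c₀, ?_⟩
  rw [mul_sub, sub_eq_zero] at hm
  rw [map_mul, map_pow, pow_add, mul_assoc]
  exact hm.symm

theorem basicOpen_le_compl {Z : Closeds X} {V : X.affineOpens} {f : Γ(X, V.1)}
    (hf : f ∈ (Scheme.IdealSheafData.vanishingIdeal Z).ideal V) :
    (X.basicOpen f : Set X) ⊆ (Z : Set X)ᶜ := by
  intro x hx hxZ
  obtain ⟨p, rfl⟩ : x ∈ Set.range V.2.fromSpec := by rw [V.2.range_fromSpec]; exact X.basicOpen_le f hx
  rw [Scheme.IdealSheafData.vanishingIdeal_ideal, PrimeSpectrum.mem_vanishingIdeal] at hf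
  have : p ∈ V.2.fromSpec ⁻¹ᵁ X.basicOpen f := hx
  rw [V.2.fromSpec_preimage_basicOpen] at this
  exact this (hf p hxZ)

theorem ideal_comap_preimage (h : X₁ ⟶ X) [IsAffineHom h] (I : X.IdealSheafData) (V : X.affineOpens) :
    (I.comap h).ideal ⟨h ⁻¹ᵁ V.1, V.2.preimage h⟩ = (I.ideal V).map (h.app V.1).hom := by
  rw [H29Blow.ideal_comap I h V ⟨h ⁻¹ᵁ V.1, V.2.preimage h⟩ le_rfl, Scheme.Hom.appLE_eq_app]

theorem mem_radical_of_basicOpen_subset {J : X.IdealSheafData} {W : X.affineOpens} {b : Γ(X, W.1)}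
    (hb : (X.basicOpen b : Set X) ⊆ (J.support : Set X)ᶜ) : b ∈ (J.ideal W).radical := by
  rw [Ideal.radical_eq_sInf, Submodule.mem_sInf]
  rintro P ⟨hJP, hP⟩
  by_contra hbP
  let p : PrimeSpectrum Γ(X, W.1) := ⟨P, hP⟩
  have h1 : W.2.fromSpec p ∈ X.zeroLocus (U := W.1) (J.ideal W : Set _) ∩ W.1 :=
    (W.2.fromSpec_image_zeroLocus _).le ⟨p, hJP, rfl⟩
  have h2 : p ∈ W.2.fromSpec ⁻¹ᵁ X.basicOpen b := by rw [W.2.fromSpec_preimage_basicOpen]; exact hbP
  exact hb h2 ((J.coe_support_inter W).ge h1).1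

theorem exists_conductor (h : X₁ ⟶ X) [IsFinite h] [IsLocallyNoetherian X] {O : X.Opens} [IsIso (h ∣_ O)]
    (Z : Closeds X) (hZO : (Z : Set X)ᶜ ⊆ O) (V : X.affineOpens) :
    ∃ N, 0 < N ∧
      (∀ y ∈ (((Scheme.IdealSheafData.vanishingIdeal Z).ideal V) ^ N).map (h.app V.1).hom,
        y ∈ (h.app V.1).hom.range) ∧
      ∀ b : Γ(X₁, h ⁻¹ᵁ V.1), (X₁.basicOpen b : Set X₁) ⊆ (h ⁻¹' (Z : Set X))ᶜ →
        ∃ m₀, ∀ m, m₀ ≤ m → ∀ c, b ^ m * c ∈ (h.app V.1).hom.range := by
  haveI : IsNoetherianRing Γ(X, V.1) := IsLocallyNoetherian.component_noetherian V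
  set I := Scheme.IdealSheafData.vanishingIdeal Z
  obtain ⟨N, hN0, hN⟩ := exists_pow_map_le_range (h.app V.1).hom (IsFinite.finite_app h V.1 V.2) (I.ideal V)
    (IsNoetherian.noetherian _)
    fun f hf b => exists_pow_mul_mem_range h V.2 f (fun x hx => hZO (basicOpen_le_compl hf hx)) b
  refine ⟨N, hN0, hN, fun b hb => ?_⟩
  obtain ⟨k, hk⟩ := mem_radical_of_basicOpen_subset (J := I.comap h) (W := ⟨h ⁻¹ᵁ V.1, V.2.preimage h⟩)
    (b := b) (by rwa [Scheme.IdealSheafData.support_comap, Closeds.coe_preimage,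
      Scheme.IdealSheafData.coe_support_vanishingIdeal])
  rw [ideal_comap_preimage] at hk
  refine ⟨k * N, fun m hm c => hN _ ?_⟩
  obtain ⟨j, rfl⟩ := Nat.exists_eq_add_of_le hm
  rw [pow_add, mul_assoc, pow_mul, Ideal.map_pow]
  exact Ideal.mul_mem_right _ _ (Ideal.pow_mem_pow hk N)

end Groth.Agent.H06RAmple
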