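import Groth.Agent.H06RAmple.Extend
import Groth.Agent.H06RAmple.Conductor
import Groth.Agent.H10Coh.AmpleFiniteSurj
import Groth.Agent.H11Ample.AmpleOn
import Groth.Agent.H11Ample.Converse
import Groth.Agent.H17.Separated
import Groth.Agent.H17.AmpleSep
import Groth.Agent.LeadAff.Chevalley

/-! Ampleness descends along a finite surjection that is an isomorphism off a proper closed subset. -/

set_option autoImplicit false
set_option backward.isDefEq.respectTransparency false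
set_option linter.style.haveILetI false
noncomputable section
universe u
open CategoryTheory CategoryTheory.Limits AlgebraicGeometry Opposite TopologicalSpace
open Groth.Agent.H11Tilde Groth.Agent.H11Ample Groth.Agent.H10Coh

namespace Groth.Agent.H06RAmple

variable {X Y : Scheme.{u}} {L : X.Modules}

/-- Inverse image of generators by an affine morphism. -/
abbrev Gens.pull (G : Gens L) (f : Y ⟶ X) [IsAffineHom f] : Gens ((Scheme.Modules.pullback f).obj L) where
  ι := G.ι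
  V a := f ⁻¹ᵁ G.V a
  e a := OmegaSh.pullSect f L (G.V a) (G.e a)
  cover y := G.cover (f y)
  isGen a := IsGen.pullSect f (G.isGen a)
  aff a := (G.aff a).preimage f

/-- Powers of generators. -/
abbrev Gens.pow (G : Gens L) (n : ℕ) : Gens (CohB1.tensorPow L n) where
  ι := G.ι
  V := G.V
  e a := spow (G.e a) n
  cover := G.cover
  isGen a := isGen_spow (G.isGen a) n
  aff := G.aff

theorem mem_gen_iff_coord (G : Gens L) {S : Γ(L, ⊤)} {c : ∀ a, Γ(X, G.V a)}
    (hS : ∀ a, L.presheaf.map (homOfLE (le_top : G.V a ≤ ⊤)).op S = c a • G.e a) {y : X} {a : G.ι}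
    (hy : y ∈ G.V a) : y ∈ gen L S ↔ y ∈ X.basicOpen (c a) :=
  ⟨fun h => (gen_inf_eq_basicOpen (G.isGen a) S _ (hS a)).le ⟨h, hy⟩,
    fun h => ((gen_inf_eq_basicOpen (G.isGen a) S _ (hS a)).ge h).1⟩

theorem exists_coords (G : Gens L) (S : Γ(L, ⊤)) : ∃ c : ∀ a, Γ(X, G.V a),
    ∀ a, L.presheaf.map (homOfLE (le_top : G.V a ≤ ⊤)).op S = c a • G.e a := by
  choose c hc using fun a => exists_coeff (G.isGen a) (L.presheaf.map (homOfLE (le_top : G.V a ≤ ⊤)).op S)
  exact ⟨c, hc⟩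

theorem pull_transition {G : Gens L} (f : Y ⟶ X) {a b : G.ι} {u : Γ(X, G.V a ⊓ G.V b)}
    (hu : L.presheaf.map (homOfLE inf_le_left).op (G.e a) = u • L.presheaf.map (homOfLE inf_le_right).op (G.e b)) :
    ((Scheme.Modules.pullback f).obj L).presheaf.map
        (homOfLE (inf_le_left : f ⁻¹ᵁ G.V a ⊓ f ⁻¹ᵁ G.V b ≤ f ⁻¹ᵁ G.V a)).op (OmegaSh.pullSect f L _ (G.e a)) =
      (show Γ(Y, f ⁻¹ᵁ G.V a ⊓ f ⁻¹ᵁ G.V b) from f.app (G.V a ⊓ G.V b) u) •
        ((Scheme.Modules.pullback f).obj L).presheaf.map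
          (homOfLE (inf_le_right : f ⁻¹ᵁ G.V a ⊓ f ⁻¹ᵁ G.V b ≤ f ⁻¹ᵁ G.V b)).op (OmegaSh.pullSect f L _ (G.e b)) := by
  have h := congrArg (OmegaSh.pullSect f L (G.V a ⊓ G.V b)) hu
  rw [pullSect_res, OmegaSh.pullSect_smul, pullSect_res] at h
  exact h

theorem compat_pull (G : Gens L) (f : Y ⟶ X) [IsAffineHom f] {S : Γ((Scheme.Modules.pullback f).obj L, ⊤)}
    {c : ∀ a, Γ(Y, f ⁻¹ᵁ G.V a)}
    (hS : ∀ a, ((Scheme.Modules.pullback f).obj L).presheaf.map (homOfLE (le_top : f ⁻¹ᵁ G.V a ≤ ⊤)).op S =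
      c a • OmegaSh.pullSect f L _ (G.e a)) : Compat G f c :=
  fun a b u hu => compat_of_section (G.pull f) hS a b _ (pull_transition f hu)

/-- A section upstairs with coordinates from downstairs descends. -/
theorem exists_descend (G : Gens L) (h : Y ⟶ X) [IsAffineHom h] (hinj : ∀ U, Function.Injective (h.app U))
    (S₁ : Γ((Scheme.Modules.pullback h).obj L, ⊤)) (a₀ : ∀ a, Γ(X, G.V a))
    (hS₁ : ∀ a, ((Scheme.Modules.pullback h).obj L).presheaf.map (homOfLE (le_top : h ⁻¹ᵁ G.V a ≤ ⊤)).op S₁ =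
      h.app _ (a₀ a) • OmegaSh.pullSect h L _ (G.e a)) :
    ∃ S : Γ(L, ⊤), (∀ a, L.presheaf.map (homOfLE (le_top : G.V a ≤ ⊤)).op S = a₀ a • G.e a) ∧
      gen ((Scheme.Modules.pullback h).obj L) S₁ = h ⁻¹ᵁ gen L S := by
  obtain ⟨S, hS⟩ := exists_section G a₀ fun a b u hu => hinj (G.V a ⊓ G.V b) (by
    have e := compat_pull G h hS₁ a b u hu
    show h.app (G.V a ⊓ G.V b) (r inf_le_left (a₀ a) * u) = h.app (G.V a ⊓ G.V b) (r inf_le_right (a₀ b))
    rw [map_mul, app_r, app_r]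
    exact e)
  refine ⟨S, hS, ?_⟩
  ext y
  obtain ⟨a, ha⟩ := G.cover (h y)
  show y ∈ gen _ S₁ ↔ h y ∈ gen L S
  rw [mem_gen_iff_coord (G.pull h) (S := S₁) (c := fun a => h.app _ (a₀ a)) hS₁ (a := a) ha,
    mem_gen_iff_coord G hS ha, ← Scheme.preimage_basicOpen]
  rfl

theorem compat_pull_comp {Z₁ Z : Scheme.{u}} (G : Gens L) (h : Y ⟶ X) [IsAffineHom h] (i₁ : Z₁ ⟶ Y) (p : Z₁ ⟶ Z)
    (i : Z ⟶ X) (hsq : i₁ ≫ h = p ≫ i) (a₀ : ∀ a, Γ(X, G.V a)) (hc : Compat G i (fun a => i.app _ (a₀ a))) :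
    Compat (G.pull h) i₁ (fun a => i₁.app _ (h.app _ (a₀ a))) := by
  intro a b u₁ hu₁
  obtain ⟨u, hu⟩ := transition (ei := G.e a) (G.isGen b)
  have e : u₁ = h.app _ u :=
    H7Lim.AmpleDescent.coeff_unique (((G.pull h).isGen b).res inf_le_right) (hu₁.symm.trans (pull_transition h hu))
  have h0 : i.app (G.V a ⊓ G.V b) (r inf_le_left (a₀ a) * u - r inf_le_right (a₀ b)) = 0 := by
    rw [map_sub, map_mul, app_r, app_r, sub_eq_zero]
    exact hc a b u hu
  have h1 : i₁.app _ (h.app _ (r (inf_le_left : G.V a ⊓ G.V b ≤ _) (a₀ a) * u - r inf_le_right (a₀ b))) = 0 := by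
    have : (i₁ ≫ h).app (G.V a ⊓ G.V b) (r inf_le_left (a₀ a) * u - r inf_le_right (a₀ b)) = 0 := by
      rw [Scheme.Hom.congr_app hsq]
      simp [h0]
    simpa using this
  rw [map_sub, map_sub, map_mul, map_mul, app_r, app_r, app_r, app_r, sub_eq_zero] at h1
  rw [e]
  exact h1

theorem isAffineOpen_of_preimage (h : Y ⟶ X) [IsFinite h] [Surjective h] [IsLocallyNoetherian X] {U : X.Opens}
    (hU : IsAffineOpen (h ⁻¹ᵁ U)) : IsAffineOpen U := by
  haveI : IsAffine (h ⁻¹ᵁ U).toScheme := hU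
  haveI : Surjective (h ∣_ U) := IsZariskiLocalAtTarget.restrict (P := @Surjective) ‹_› U
  haveI : IsFinite (h ∣_ U) := IsZariskiLocalAtTarget.restrict (P := @IsFinite) ‹_› U
  haveI : CompactSpace U.toScheme := (h ∣_ U).surjective.compactSpace (h ∣_ U).continuous
  haveI : IsNoetherian U.toScheme := ⟨⟩
  exact LeadAff.isAffine_of_finite_surjective (h ∣_ U)

theorem isAmple_of_model {A : Type u} [CommRing A] [IsNoetherianRing A] {X₁ : Scheme.{u}} [IsReduced X] [CompactSpace X]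
    (q : X ⟶ Spec (CommRingCat.of A)) [LocallyOfFiniteType q] (hL : PicF.IsInvertible L)
    (h : X₁ ⟶ X) [IsFinite h] [Surjective h] (hA : CohB1.IsAmple ((Scheme.Modules.pullback h).obj L))
    {O : X.Opens} [IsIso (h ∣_ O)] (Z : Closeds X) (hZO : (Z : Set X)ᶜ ⊆ O)
    (hZ : IsProper ((Scheme.IdealSheafData.vanishingIdeal Z).subschemeι ≫ q)) : CohB1.IsAmple L := by
  haveI : IsLocallyNoetherian X := LocallyOfFiniteType.isLocallyNoetherian q
  haveI : IsNoetherian X := ⟨⟩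
  haveI : CompactSpace X₁ := QuasiCompact.compactSpace_of_compactSpace h
  haveI : IsLocallyNoetherian X₁ := LocallyOfFiniteType.isLocallyNoetherian h
  haveI : IsNoetherian X₁ := ⟨⟩
  haveI : IsSchemeTheoreticallyDominant h := IsSchemeTheoreticallyDominant.of_isDominant h
  have hinj : ∀ U, Function.Injective (h.app U) := h.app_injective
  haveI : X₁.IsSeparated := H17.AmpleSep.isSeparated_of_isAmple hA
  haveI : IsSeparated (h ≫ q) := by
    haveI : IsSeparated ((h ≫ q) ≫ terminal.from _) := terminal.comp_from (h ≫ q) ▸ inferInstance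
    exact IsSeparated.of_comp (h ≫ q) (terminal.from _)
  haveI : IsSeparated q := H17.isSeparated_of_surjective_universallyClosed h q
  -- a finite affine cover with generators, and the conductor
  obtain ⟨G0⟩ := exists_gens hL
  obtain ⟨F, hF⟩ := isCompact_univ.elim_finite_subcover (fun a => (G0.V a : Set X)) (fun a => (G0.V a).isOpen)
    fun x _ => Set.mem_iUnion.2 (G0.cover x)
  let G : Gens L :=
    { ι := {a // a ∈ F}
      V := fun a => G0.V a.1
      e := fun a => G0.e a.1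
      cover := fun x => by
        obtain ⟨a, ha, hxa⟩ := Set.mem_iUnion₂.1 (hF (Set.mem_univ x))
        exact ⟨⟨a, ha⟩, hxa⟩
      isGen := fun a => G0.isGen a.1
      aff := fun a => G0.aff a.1 }
  haveI : Fintype G.ι := inferInstanceAs (Fintype {a // a ∈ F})
  set I := Scheme.IdealSheafData.vanishingIdeal Z
  choose N hN0 hN hm₀ using fun a : G.ι => exists_conductor h Z hZO ⟨G.V a, G.aff a⟩
  rw [isAmple_iff]
  refine ⟨hL, inferInstance, fun x => ?_⟩
  by_cases hxZ : x ∈ Z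
  swap
  · obtain ⟨x₁, rfl⟩ := h.surjective x
    let U : X.Opens := ⟨(Z : Set X)ᶜ, Z.isClosed.isOpen_compl⟩
    obtain ⟨k, s₁, hk, hxs, hsU, hsaff⟩ := exists_affine_gen_le hA (U := h ⁻¹ᵁ U) (x := x₁) hxZ
    have hM := isInvertible_tensorPow hL k
    obtain ⟨φ⟩ := exists_iso_pullback_tensorPow h hL k
    obtain ⟨b, hb⟩ := exists_coords ((G.pow k).pull h) (φ.inv.app ⊤ s₁)
    have hgent : gen _ (φ.inv.app ⊤ s₁) = gen _ s₁ := gen_iso φ.inv s₁
    have hbU : ∀ a, (X₁.basicOpen (b a) : Set X₁) ⊆ (h ⁻¹' (Z : Set X))ᶜ := fun a y hy =>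
      hsU (hgent.le ((mem_gen_iff_coord ((G.pow k).pull h) hb (a := a) (X₁.basicOpen_le (b a) hy)).2 hy))
    choose m₀ hm₀ using fun a => hm₀ a (b a) (hbU a)
    let m := Finset.univ.sup m₀ + 1
    obtain ⟨ψ⟩ := exists_iso_pullback_tensorPow h hM m
    let T₁ := ψ.inv.app ⊤ (spow (φ.inv.app ⊤ s₁) m)
    have hv : ∀ a, ∃ v, ψ.inv.app (h ⁻¹ᵁ G.V a) (spow (OmegaSh.pullSect h _ _ ((G.pow k).e a)) m) =
        v • OmegaSh.pullSect h _ _ (((G.pow k).pow m).e a) := fun a =>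
      exists_coeff ((((G.pow k).pow m).pull h).isGen a) _
    choose v hv using hv
    choose a₀ ha₀ using fun a => hm₀ a m ((Finset.le_sup (Finset.mem_univ a)).trans (Nat.le_succ _)) (v a)
    obtain ⟨S, -, hgen⟩ := exists_descend ((G.pow k).pow m) h hinj T₁ a₀ fun a => by
      show ((Scheme.Modules.pullback h).obj _).presheaf.map _ (ψ.inv.app ⊤ (spow (φ.inv.app ⊤ s₁) m)) = _
      rw [← app_map_apply ψ.inv, spow_res]
      erw [hb a, spow_smul, Scheme.Modules.Hom.app_smul, hv a, smul_smul]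
      erw [← ha₀ a]
    have hgenT : gen _ T₁ = gen _ s₁ := by
      rw [gen_iso ψ.inv, gen_spow (isInvertible_pullback h hM) _ m (Nat.succ_pos _), hgent]
    obtain ⟨μ, -⟩ := exists_iso_mul hL k m
    refine ⟨k * m, μ.hom.app ⊤ S, Nat.mul_pos hk (Nat.succ_pos _), ?_, ?_⟩
    · rw [gen_iso]; exact hgen.le (hgenT.ge hxs)
    · rw [gen_iso]; exact isAffineOpen_of_preimage h (by rwa [← hgen, hgenT])
  -- the points of `Z`
  let n := Finset.univ.sup N + 1
  let J := I ^ n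
  let iN := J.subschemeι
  have hJI : J ≤ I := fun V => by
    rw [Scheme.IdealSheafData.ideal_pow, Pi.pow_apply]
    exact Ideal.pow_le_self (Nat.succ_ne_zero _)
  have hJsupp : (J.support : Set X) = Z := by
    rw [Scheme.IdealSheafData.support_pow I n (Nat.succ_ne_zero _), Scheme.IdealSheafData.coe_support_vanishingIdeal]
  haveI : Surjective (Scheme.IdealSheafData.inclusion hJI) := ⟨fun y => by
    have hy : J.subschemeι y ∈ Set.range I.subschemeι := by
      rw [Scheme.IdealSheafData.range_subschemeι, Scheme.IdealSheafData.coe_support_vanishingIdeal, ← hJsupp,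
        ← Scheme.IdealSheafData.range_subschemeι]
      exact ⟨y, rfl⟩
    obtain ⟨z, hz⟩ := hy
    refine ⟨z, J.subschemeι.isClosedEmbedding.injective ?_⟩
    rw [← Scheme.Hom.comp_apply, Scheme.IdealSheafData.inclusion_subschemeι, hz]⟩
  haveI : UniversallyClosed (Scheme.IdealSheafData.inclusion hJI ≫ iN ≫ q) := by
    rw [Scheme.IdealSheafData.inclusion_subschemeι_assoc]; infer_instance
  haveI : UniversallyClosed (iN ≫ q) := UniversallyClosed.of_comp_surjective (Scheme.IdealSheafData.inclusion hJI) _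
  haveI : IsProper (iN ≫ q) := ⟨⟩
  let i₁ := pullback.fst h iN
  let p := pullback.snd h iN
  haveI : IsClosedImmersion i₁ := MorphismProperty.pullback_fst _ _ (inferInstanceAs (IsClosedImmersion iN))
  haveI : IsFinite p := MorphismProperty.pullback_snd _ _ ‹_›
  haveI : Surjective p := MorphismProperty.pullback_snd _ _ ‹_›
  have hsq : i₁ ≫ h = p ≫ iN := pullback.condition
  haveI : IsProper (i₁ ≫ h ≫ q) := by
    rw [← Category.assoc, hsq, Category.assoc]; infer_instance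
  have hLN : CohB1.IsAmple ((Scheme.Modules.pullback iN).obj L) := by
    refine AmpleFS.isAmple_of_finite_surjective (iN ≫ q) p (isInvertible_pullback iN hL) ?_
    exact isAmple_of_iso ((Scheme.Modules.pullbackComp i₁ h).app L ≪≫ (Scheme.Modules.pullbackCongr hsq).app L ≪≫
      ((Scheme.Modules.pullbackComp p iN).app L).symm) (isAmple_pullback_of_isAffineHom i₁ hA)
  obtain ⟨xN, rfl⟩ : x ∈ Set.range iN := by
    rw [Scheme.IdealSheafData.range_subschemeι, hJsupp]; exact hxZ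
  obtain ⟨k₁, T, hk₁, hxT, -⟩ := (isAmple_iff.1 hLN).2.2 xN
  obtain ⟨d, k₀, hd, hext⟩ := exists_extend (h ≫ q) hA i₁
  let kk := k₁ * (k₀ + 1)
  let k := d * kk
  have hkk : 0 < kk := Nat.mul_pos hk₁ k₀.succ_pos
  obtain ⟨μ, -⟩ := exists_iso_mul (isInvertible_pullback iN hL) k₁ (d * (k₀ + 1))
  obtain ⟨T', hT'⟩ := exists_section_of_eq (show k₁ * (d * (k₀ + 1)) = k by ring)
    (μ.hom.app ⊤ (spow T (d * (k₀ + 1))))
  rw [gen_iso, gen_spow (isInvertible_tensorPow (isInvertible_pullback iN hL) k₁) T _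
    (Nat.mul_pos hd k₀.succ_pos)] at hT'
  obtain ⟨φN⟩ := exists_iso_pullback_tensorPow iN hL k
  obtain ⟨c, hc⟩ := exists_coords ((G.pow k).pull iN) (φN.inv.app ⊤ T')
  choose a₀ ha₀ using fun a : G.ι => iN.app_surjective (G.V a) (G.aff a) (c a)
  obtain ⟨φ⟩ := exists_iso_pullback_tensorPow h hL k
  obtain ⟨S₁, b, hS₁, hb, haff⟩ := hext kk ((Nat.le_succ k₀).trans (Nat.le_mul_of_pos_left _ hk₁)) hkk _ ⟨φ⟩
    ((G.pow k).pull h) (fun a => i₁.app _ (h.app _ (a₀ a)))
    (compat_pull_comp (G.pow k) h i₁ p iN hsq a₀ (by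
      intro a a' u hu
      show _ = _
      simp only [ha₀]
      exact compat_pull (G.pow k) iN hc a a' u hu))
  have hrange : ∀ a, b a ∈ (h.app (G.V a)).hom.range := fun a => by
    have h1 : b a - h.app _ (a₀ a) ∈ i₁.ker.ideal ⟨h ⁻¹ᵁ G.V a, (G.aff a).preimage h⟩ := by
      rw [Scheme.Hom.ker_apply, RingHom.mem_ker, map_sub, sub_eq_zero]
      exact hb a
    change _ ∈ (J.comap h).ideal _ at h1
    rw [ideal_comap_preimage h J ⟨G.V a, G.aff a⟩, Scheme.IdealSheafData.ideal_pow, Pi.pow_apply] at h1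
    have h2 := hN a _ (Ideal.map_mono (Ideal.pow_le_pow_right
      ((Finset.le_sup (Finset.mem_univ a)).trans (Nat.le_succ _))) h1)
    simpa using add_mem h2 (⟨a₀ a, rfl⟩ : h.app _ (a₀ a) ∈ (h.app (G.V a)).hom.range)
  choose a₁ ha₁ using hrange
  obtain ⟨S, -, hgen⟩ := exists_descend (G.pow k) h hinj S₁ a₁ fun a => by
    rw [hS₁ a, ← ha₁ a]
  refine ⟨k, S, Nat.mul_pos hd hkk, ?_, isAffineOpen_of_preimage h (by rwa [← hgen])⟩
  obtain ⟨z₁, rfl⟩ := p.surjective xN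
  rw [← Scheme.Hom.comp_apply, ← hsq, Scheme.Hom.comp_apply]
  show i₁ z₁ ∈ h ⁻¹ᵁ gen _ S
  rw [← hgen]
  obtain ⟨a, ha⟩ := G.cover (iN (p z₁))
  have ha' : i₁ z₁ ∈ h ⁻¹ᵁ G.V a := by
    show h (i₁ z₁) ∈ G.V a
    rwa [← Scheme.Hom.comp_apply, hsq, Scheme.Hom.comp_apply]
  rw [mem_gen_iff_coord ((G.pow k).pull h) hS₁ (a := a) ha']
  show z₁ ∈ i₁ ⁻¹ᵁ X₁.basicOpen (b a)
  rw [Scheme.preimage_basicOpen, hb a, ← Scheme.preimage_basicOpen, ← Scheme.preimage_basicOpen]
  show h (i₁ z₁) ∈ X.basicOpen (a₀ a)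
  rw [← Scheme.Hom.comp_apply, hsq, Scheme.Hom.comp_apply]
  have := (mem_gen_iff_coord ((G.pow k).pull iN) hc (y := p z₁) (a := a) ha).1
    (by rw [gen_iso φN.inv, hT']; exact hxT)
  rw [← ha₀ a, ← Scheme.preimage_basicOpen] at this
  exact this

end Groth.Agent.H06RAmple
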