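import Groth.Agent.H06RAmple.Main
import Groth.Agent.H06UOSect.Main
import Groth.Agent.H11Norm.RelDescent
import Groth.Agent.H17.Ample.LocalProj
import Groth.Agent.H11Ample.RelPullback

/-! Relative ampleness descends along universally open surjective morphisms off which the source is normal. -/

set_option autoImplicit false
set_option backward.isDefEq.respectTransparency false
set_option linter.style.haveILetI false
noncomputable section
universe u
open CategoryTheory CategoryTheory.Limits AlgebraicGeometry Opposite TopologicalSpace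
open Groth.Agent.H11Ample

namespace Groth.Agent.H06RAmple

theorem isProper_vanishingIdeal_restrict {X Y : Scheme.{u}} (f : X ⟶ Y) (V : Y.Opens) (Z : Closeds X)
    (hZ : IsProper ((Scheme.IdealSheafData.vanishingIdeal Z).subschemeι ≫ f)) :
    IsProper ((Scheme.IdealSheafData.vanishingIdeal (X := (f ⁻¹ᵁ V).toScheme)
      ⟨(f ⁻¹ᵁ V).ι ⁻¹' (Z : Set X), Z.isClosed.preimage (f ⁻¹ᵁ V).ι.continuous⟩).subschemeι ≫ (f ∣_ V)) := by
  let U := f ⁻¹ᵁ V
  let Z_U : Closeds U.toScheme := ⟨U.ι ⁻¹' (Z : Set X), Z.isClosed.preimage U.ι.continuous⟩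
  set a := (Scheme.IdealSheafData.vanishingIdeal Z).subschemeι
  show IsProper ((Scheme.IdealSheafData.vanishingIdeal Z_U).subschemeι ≫ (f ∣_ V))
  set ι₀ := (Scheme.IdealSheafData.vanishingIdeal Z_U).subschemeι
  haveI : IsReduced (Scheme.IdealSheafData.vanishingIdeal Z_U).subscheme :=
    H17.isReduced_vanishingIdeal_subscheme _
  haveI : IsClosedImmersion (a ∣_ U) :=
    IsZariskiLocalAtTarget.restrict (P := @IsClosedImmersion) (inferInstanceAs (IsClosedImmersion a)) U
  obtain ⟨l, hl⟩ := H17.exists_lift_immersion_of_range_subset ι₀ (a ∣_ U) (by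
    rintro _ ⟨z, rfl⟩
    obtain ⟨w, hw⟩ := (H17.range_vanishingIdeal_subschemeι Z).ge
      (show U.ι (ι₀ z) ∈ (Z : Set X) from (H17.range_vanishingIdeal_subschemeι Z_U).le ⟨z, rfl⟩)
    refine ⟨⟨w, show a w ∈ U by rw [hw]; exact (ι₀ z).2⟩, U.ι.isOpenEmbedding.injective ?_⟩
    rw [← Scheme.Hom.comp_apply, morphismRestrict_ι, Scheme.Hom.comp_apply]
    exact hw)
  haveI : IsClosedImmersion (l ≫ a ∣_ U) := by rw [hl]; infer_instance
  haveI : IsClosedImmersion l := IsClosedImmersion.of_comp l (a ∣_ U)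
  haveI : IsProper ((a ∣_ U) ≫ (f ∣_ V)) := by
    rw [← morphismRestrict_comp]
    exact IsZariskiLocalAtTarget.restrict (P := @IsProper) hZ V
  rw [← hl, Category.assoc]
  infer_instance

/-- Relative ampleness descends along a universally open surjection if the source is normal off a proper closed set. -/
theorem isRelAmple_of_baseChange {X Y Y' : Scheme.{u}} [IsLocallyNoetherian Y] (f : X ⟶ Y) [LocallyOfFiniteType f]
    (g : Y' ⟶ Y) [LocallyOfFiniteType g] [UniversallyOpen g] [Surjective g] {L : X.Modules}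
    (hL : PicF.IsInvertible L) (Z : Closeds X)
    (hZ : IsProper ((Scheme.IdealSheafData.vanishingIdeal Z).subschemeι ≫ f))
    (hnor : ∀ x : X, x ∉ Z → IsDomain (X.presheaf.stalk x) ∧ IsIntegrallyClosed (X.presheaf.stalk x))
    (hA : RelAmple.IsRelAmple (pullback.snd f g) ((Scheme.Modules.pullback (pullback.fst f g)).obj L)) :
    RelAmple.IsRelAmple f L := by
  haveI := hA.1
  suffices key : ∀ V : Y.Opens, IsAffineOpen V → IsCompact (f ⁻¹ᵁ V : Set X) ∧ AmpleOn L (f ⁻¹ᵁ V) from
    isRelAmple_iff.2 ⟨quasiCompact_iff_forall_isAffineOpen.2 fun V hV => (key V hV).1, fun V hV => (key V hV).2⟩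
  intro V hV
  haveI : IsAffine V.toScheme := hV
  haveI : IsNoetherian V.toScheme := by
    haveI : IsLocallyNoetherian V.toScheme := LocallyOfFiniteType.isLocallyNoetherian V.ι
    exact ⟨⟩
  let g' := pullback.snd g V.ι
  haveI : LocallyOfFiniteType g' := MorphismProperty.pullback_snd _ _ inferInstance
  haveI : UniversallyOpen g' := MorphismProperty.pullback_snd _ _ inferInstance
  haveI : Surjective g' := MorphismProperty.pullback_snd _ _ inferInstance
  obtain ⟨V'', h, hfin, hsurj, hloc⟩ := H06UOSect.exists_finite_surjective g'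
  haveI := hfin; haveI := hsurj
  choose U hU s hs using hloc
  let fV := f ∣_ V
  let π := pullback.fst fV h
  let f'' := pullback.snd fV h
  let L'' := (Scheme.Modules.pullback π).obj ((Scheme.Modules.pullback (f ⁻¹ᵁ V).ι).obj L)
  haveI : IsFinite π := MorphismProperty.pullback_fst _ _ hfin
  haveI : Surjective π := MorphismProperty.pullback_fst _ _ hsurj
  -- over each `U z` the family comes from the base change by `g`
  have hloc' : ∀ z, QuasiCompact (f'' ∣_ U z) ∧
      RelAmple.IsRelAmple (f'' ∣_ U z) (L''.restrict (f'' ⁻¹ᵁ U z).ι) := fun z => by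
    let W := f'' ⁻¹ᵁ U z
    let t : (U z).toScheme ⟶ Y' := s z ≫ pullback.fst g' h ≫ pullback.fst g V.ι
    have ht : t ≫ g = (U z).ι ≫ h ≫ V.ι := by
      simp only [t, Category.assoc, pullback.condition, g', pullback.condition_assoc, ← hs z]
    have hout : IsPullback (W.ι ≫ π ≫ (f ⁻¹ᵁ V).ι) (f'' ∣_ U z) f ((U z).ι ≫ h ≫ V.ι) :=
      (isPullback_morphismRestrict f'' (U z)).flip.paste_horiz
        ((IsPullback.of_hasPullback fV h).paste_horiz (isPullback_morphismRestrict f V).flip)
    let m : W.toScheme ⟶ pullback f g := pullback.lift (W.ι ≫ π ≫ (f ⁻¹ᵁ V).ι) ((f'' ∣_ U z) ≫ t)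
      (by have := hout.w; simp only [Category.assoc, ht] at this ⊢; exact this)
    have hm1 : m ≫ pullback.fst f g = W.ι ≫ π ≫ (f ⁻¹ᵁ V).ι := pullback.lift_fst _ _ _
    have H : IsPullback m (f'' ∣_ U z) (pullback.snd f g) t :=
      IsPullback.of_right (by rw [hm1, ht]; exact hout) (pullback.lift_snd _ _ _) (IsPullback.of_hasPullback f g)
    have h1 := isRelAmple_pullback_of_isQuasiAffine (H11Norm.isQuasiAffine_of_isAffineHom H.isoPullback.hom)
      (isRelAmple_baseChange (pullback.snd f g) t hA)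
    rw [IsPullback.isoPullback_hom_snd] at h1
    refine ⟨h1.1, H17.LocalProj.isRelAmple_of_iso ?_ h1⟩
    exact (Scheme.Modules.pullbackComp _ _).app _ ≪≫
      (Scheme.Modules.pullbackCongr H.isoPullback_hom_fst).app _ ≪≫
      (Scheme.Modules.pullbackComp m (pullback.fst f g)).app L ≪≫
      (Scheme.Modules.pullbackCongr hm1).app L ≪≫
      ((Scheme.Modules.pullbackComp W.ι (π ≫ (f ⁻¹ᵁ V).ι)).app L).symm ≪≫
      (Scheme.Modules.pullback W.ι).mapIso ((Scheme.Modules.pullbackComp π (f ⁻¹ᵁ V).ι).app L).symm ≪≫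
      ((Scheme.Modules.restrictFunctorIsoPullback W.ι).app L'').symm
  have hcov : ⨆ z, U z = ⊤ := eq_top_iff.2 fun z _ => Opens.mem_iSup.2 ⟨z, hU z⟩
  haveI : QuasiCompact f'' := (IsZariskiLocalAtTarget.iff_of_iSup_eq_top (P := @QuasiCompact) U hcov).2
    fun z => (hloc' z).1
  have hA'' : RelAmple.IsRelAmple f'' L'' := (isRelAmple_iff_of_openCover U hcov).2 fun z => (hloc' z).2
  haveI : CompactSpace V'' := QuasiCompact.compactSpace_of_compactSpace h
  haveI : CompactSpace ↥(pullback fV h) := QuasiCompact.compactSpace_of_compactSpace f''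
  haveI : CompactSpace (f ⁻¹ᵁ V).toScheme := π.surjective.compactSpace π.continuous
  refine ⟨isCompact_iff_compactSpace.2 ‹_›, ?_⟩
  haveI : LocallyOfFiniteType fV := IsZariskiLocalAtTarget.restrict (P := @LocallyOfFiniteType) ‹_› V
  haveI : QuasiCompact fV := by
    rw [quasiCompact_iff_compactSpace]; infer_instance
  have hA₂ : RelAmple.IsRelAmple (π ≫ fV) L'' := by
    rw [show π ≫ fV = f'' ≫ h from pullback.condition]
    refine isRelAmple_iff.2 ⟨inferInstance, fun W hW => ?_⟩
    rw [Scheme.Hom.comp_preimage]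
    exact (isRelAmple_iff.1 hA'').2 _ (hW.preimage h)
  refine (isRelAmple_iff_isAmple_of_isAffine (f := fV)).1 (isRelAmple_of_finite fV π
    (isInvertible_pullback (f ⁻¹ᵁ V).ι hL) _ (isProper_vanishingIdeal_restrict f V Z hZ) (fun y hy => Or.inl ?_) hA₂)
  obtain ⟨hd, hn⟩ := hnor ((f ⁻¹ᵁ V).ι y) hy
  haveI := hd
  haveI := hn
  let e := (asIso ((f ⁻¹ᵁ V).ι.stalkMap y)).commRingCatIsoToRingEquiv
  exact ⟨e.symm.toMulEquiv.isDomain, IsIntegrallyClosed.of_equiv e⟩

end Groth.Agent.H06RAmple
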