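import Groth.Agent.H10Coh.AmpleCriterion
import Groth.Agent.H10Coh.SerreVanishing2
import Groth.Agent.H10Coh.FinType2
import Groth.Agent.H7Lim.AmpleDescent
import Groth.Agent.H10Coh.AmpleFiniteSurj
import Mathlib

/-! Sections of invertible modules through coordinates. -/

set_option autoImplicit false
set_option backward.isDefEq.respectTransparency false
set_option linter.style.haveILetI false
noncomputable section
universe u
open CategoryTheory CategoryTheory.Limits AlgebraicGeometry Opposite TopologicalSpace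
open Groth.Agent.H11Tilde Groth.Agent.H11Ample Groth.Agent.H10Coh

namespace Groth.Agent.H06RAmple

variable {X : Scheme.{u}}

/-- A covering family of generators of an invertible module. -/
structure Gens (L : X.Modules) where
  ι : Type u
  V : ι → X.Opens
  e : ∀ a, Γ(L, V a)
  cover : ∀ x, ∃ a, x ∈ V a
  isGen : ∀ a, IsGen L (e a)
  aff : ∀ a, IsAffineOpen (V a)

/-- Coordinates agree on overlaps. -/
def Compat {L : X.Modules} (G : Gens L) {Z : Scheme.{u}} (i : Z ⟶ X)
    (c : ∀ a, Γ(Z, i ⁻¹ᵁ G.V a)) : Prop :=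
  ∀ (a b : G.ι) (u : Γ(X, G.V a ⊓ G.V b)),
    L.presheaf.map (homOfLE inf_le_left).op (G.e a) =
        u • L.presheaf.map (homOfLE inf_le_right).op (G.e b) →
      Z.presheaf.map (homOfLE (i.preimage_mono inf_le_left)).op (c a) * i.app _ u =
        Z.presheaf.map (homOfLE (i.preimage_mono inf_le_right)).op (c b)

theorem exists_gens {L : X.Modules} (hL : PicF.IsInvertible L) : Nonempty (Gens L) := by
  have h : ∀ x : X, ∃ (U : X.Opens) (e : Γ(L, U)), x ∈ U ∧ IsAffineOpen U ∧ IsGen L e := fun x => by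
    obtain ⟨V, e, hxV, he⟩ := exists_gen hL x
    obtain ⟨U, hU, hxU, hUV⟩ := exists_isAffineOpen_mem_and_subset (U := V) hxV
    exact ⟨U, _, hxU, hU, he.res (show U ≤ V from hUV)⟩
  choose U e hxU hU he using h
  exact ⟨⟨X, U, e, fun x => ⟨x, hxU x⟩, he, hU⟩⟩

theorem glue {N : X.Modules} {ι : Type u} (V : ι → X.Opens) (hV : ∀ x, ∃ a, x ∈ V a)
    (s : ∀ a, Γ(N, V a))
    (h : ∀ a b, N.presheaf.map (homOfLE (inf_le_left : V a ⊓ V b ≤ V a)).op (s a) =
      N.presheaf.map (homOfLE (inf_le_right : V a ⊓ V b ≤ V b)).op (s b)) :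
    ∃ w : Γ(N, ⊤), ∀ a, N.presheaf.map (homOfLE (le_top : V a ≤ ⊤)).op w = s a := by
  obtain ⟨w, hw, -⟩ := TopCat.Sheaf.existsUnique_gluing' (sheafOf N) V ⊤
    (fun a => homOfLE le_top)
    (fun x _ => Opens.mem_iSup.2 (hV x)) s h
  exact ⟨w, hw⟩

variable {L : X.Modules} (G : Gens L)

theorem exists_section (b : ∀ a, Γ(X, G.V a)) (hb : Compat G (𝟙 X) b) :
    ∃ S : Γ(L, ⊤), ∀ a, L.presheaf.map (homOfLE (le_top : G.V a ≤ ⊤)).op S = b a • G.e a := by
  refine glue G.V G.cover _ fun a c => ?_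
  obtain ⟨u, hu⟩ := transition (ei := G.e a) (G.isGen c)
  rw [Scheme.Modules.map_smul, Scheme.Modules.map_smul, hu, smul_smul]
  congr 1
  exact hb a c u hu

theorem compat_of_section {S : Γ(L, ⊤)} {b : ∀ a, Γ(X, G.V a)}
    (hS : ∀ a, L.presheaf.map (homOfLE (le_top : G.V a ≤ ⊤)).op S = b a • G.e a) :
    Compat G (𝟙 X) b := by
  intro a c u hu
  have h1 := congrArg (L.presheaf.map (homOfLE (inf_le_left : G.V a ⊓ G.V c ≤ _)).op) (hS a)
  have h2 := congrArg (L.presheaf.map (homOfLE (inf_le_right : G.V a ⊓ G.V c ≤ _)).op) (hS c)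
  rw [mres_mres, Scheme.Modules.map_smul] at h1 h2
  rw [hu, smul_smul] at h1
  exact H7Lim.AmpleDescent.coeff_unique ((G.isGen c).res inf_le_right) (h1.symm.trans h2)

attribute [local instance 10000] hasSheafifyAb hasWeakSheafifyAb hasExtAb enoughInjAb

/-- Serre: on a proper scheme, coordinates on a closed subscheme lift to high powers of an ample module. -/
theorem exists_lift {A : Type u} [CommRing A] [IsNoetherianRing A] (q : X ⟶ Spec (CommRingCat.of A))
    [IsProper q] {M : X.Modules} (hM : CohB1.IsAmple M) (I : X.IdealSheafData) :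
    ∃ k₀ : ℕ, ∀ k, k₀ ≤ k → ∀ (G : Gens (CohB1.tensorPow M k))
      (c : ∀ a, Γ(I.subscheme, I.subschemeι ⁻¹ᵁ G.V a)), Compat G I.subschemeι c →
      ∃ (S : Γ(CohB1.tensorPow M k, ⊤)) (b : ∀ a, Γ(X, G.V a)),
        (∀ a, (CohB1.tensorPow M k).presheaf.map (homOfLE (le_top : G.V a ≤ ⊤)).op S = b a • G.e a) ∧
          ∀ a, I.subschemeι.app (G.V a) (b a) = c a := by
  haveI : IsLocallyNoetherian X := LocallyOfFiniteType.isLocallyNoetherian q
  haveI : (ClSub.quotMod I).IsQuasicoherent :=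
    @isQuasicoherent_pushforward _ _ I.subschemeι inferInstance inferInstance _ isQuasicoherent_unit
  haveI := H10Coh.epi_toSubscheme I
  have hK : Coh.IsCoh (kernel (ClSub.toSubscheme I)) :=
    isCoh_kernel _ (LeadAff.isCoh_structureModule X) ‹_›
  obtain ⟨k₀, hk₀⟩ := Tw.exists_vanishing_ample q hM _ hK
  refine ⟨k₀, fun k hk G c hc => ?_⟩
  have hN : PicF.IsInvertible (CohB1.tensorPow M k) := isInvertible_tensorPow (isAmple_iff.1 hM).1 k
  let Q := ClSub.quotMod I
  let φ : Coh.structureModule X ⟶ Q := ClSub.toSubscheme I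
  let T := CohB1.tensorMod Q (CohB1.tensorPow M k)
  obtain ⟨w, hw⟩ := glue (N := T) G.V G.cover
    (fun a => tm (show Γ(Q, G.V a) from c a) (G.e a)) fun a b => by
      obtain ⟨u, hu⟩ := transition (ei := G.e a) (G.isGen b)
      rw [tm_res, tm_res, hu, tm_smul_right, ← tm_smul_left]
      congr 1
      exact (mul_comm (G := Γ(I.subscheme, I.subschemeι ⁻¹ᵁ (G.V a ⊓ G.V b))) _ _).trans (hc a b u hu)
  obtain ⟨S', hS'⟩ : ∃ S' : Γ(CohB1.tensorMod (Coh.structureModule X) (CohB1.tensorPow M k), ⊤),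
      (LimSh.tensorModMap φ (CohB1.tensorPow M k)).app ⊤ S' = w :=
    surjective_app_of_subsingleton_HnM (Tw.shortExact_seq (shortExact_kernel φ) hN) ⊤
      (hk₀ k hk 1 one_pos) w
  have hb : ∀ a, ∃ b : Γ(X, G.V a),
      (CohB1.tensorMod (Coh.structureModule X) (CohB1.tensorPow M k)).presheaf.map
        (homOfLE (le_top : G.V a ≤ ⊤)).op S' =
      tm (show Γ(Coh.structureModule X, G.V a) from b) (G.e a) := fun a => by
    obtain ⟨b, hb⟩ := (bijective_tm (F := Coh.structureModule X) (G.isGen a) le_rfl).2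
      ((CohB1.tensorMod (Coh.structureModule X) (CohB1.tensorPow M k)).presheaf.map
        (homOfLE (le_top : G.V a ≤ ⊤)).op S')
    beta_reduce at hb
    rw [mres_self] at hb
    exact ⟨b, hb.symm⟩
  choose b hb using hb
  have hcomp : Compat G (𝟙 X) b := by
    intro a d u hu
    have h1 := congrArg ((CohB1.tensorMod (Coh.structureModule X) (CohB1.tensorPow M k)).presheaf.map
      (homOfLE (inf_le_left : G.V a ⊓ G.V d ≤ _)).op) (hb a)
    have h2 := congrArg ((CohB1.tensorMod (Coh.structureModule X) (CohB1.tensorPow M k)).presheaf.map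
      (homOfLE (inf_le_right : G.V a ⊓ G.V d ≤ _)).op) (hb d)
    rw [mres_mres, tm_res] at h1 h2
    rw [hu, tm_smul_right, ← tm_smul_left] at h1
    have h3 := Tw.tm_inj ((G.isGen d).res inf_le_right) (h1.symm.trans h2)
    exact (mul_comm (G := Γ(X, G.V a ⊓ G.V d)) _ _).trans h3
  obtain ⟨S, hS⟩ := exists_section G b hcomp
  refine ⟨S, b, hS, fun a => ?_⟩
  have h1 := congrArg ((LimSh.tensorModMap φ (CohB1.tensorPow M k)).app (G.V a)) (hb a)
  rw [Tw.map_tm, app_map_apply, hS', hw] at h1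
  exact (Tw.tm_inj (G.isGen a) h1).symm

end Groth.Agent.H06RAmple
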