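import Groth.Agent.H06RAmple.Coord
import Groth.Agent.H11Ample.VeryAmple
import Groth.Agent.H17.Ample.GenAffine
import Groth.Agent.H27Weil.Geometry

/-! Extending sections from proper closed subschemes, with affine loci of generation. -/

set_option autoImplicit false
set_option backward.isDefEq.respectTransparency false
set_option linter.style.haveILetI false
noncomputable section
universe u
open CategoryTheory CategoryTheory.Limits AlgebraicGeometry Opposite TopologicalSpace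
open Groth.Agent.H11Tilde Groth.Agent.H11Ample Groth.Agent.H10Coh

namespace Groth.Agent.H06RAmple

theorem exists_projective_model {A : Type u} [CommRing A] [IsNoetherianRing A] {X : Scheme.{u}}
    (q : X ⟶ Spec (CommRingCat.of A)) [LocallyOfFiniteType q] [CompactSpace X]
    {L : X.Modules} (hA : CohB1.IsAmple L) :
    ∃ (d : ℕ) (P : Scheme.{u}) (qP : P ⟶ Spec (CommRingCat.of A)) (_ : IsProper qP)
      (j : X ⟶ P) (_ : IsOpenImmersion j) (M : P.Modules),
      0 < d ∧ j ≫ qP = q ∧ CohB1.IsAmple M ∧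
        Nonempty ((Scheme.Modules.pullback j).obj M ≅ CohB1.tensorPow L d) := by
  haveI : QuasiSeparatedSpace X := quasiSeparatedSpace_of_isAmple hA
  obtain ⟨n₀, hn₀⟩ := eventually_isRelVeryAmplePn q hA
  obtain ⟨n, i, hi, hiq, ⟨τ⟩⟩ := hn₀ (n₀ + 1) n₀.le_succ
  haveI := hi
  let t := specULiftZIsTerminal.from (Spec (CommRingCat.of A))
  let pr := pullback.snd (CohB1.ProjSpace.toSpec n (ULift.{u} ℤ)) t
  haveI : IsProper (CohB1.ProjSpace.toSpec n (ULift.{u} ℤ)) := H27Weil.isProper_toSpec n _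
  haveI : IsProper pr := MorphismProperty.pullback_snd _ _ ‹_›
  haveI : IsLocallyNoetherian X := LocallyOfFiniteType.isLocallyNoetherian q
  haveI : IsNoetherian X := ⟨⟩
  let qP := i.imageι ≫ pr
  haveI : IsProper qP := inferInstanceAs (IsProper (i.imageι ≫ pr))
  obtain ⟨hc, hA0⟩ := isAmple_twistOver (Y := Spec (CommRingCat.of A)) n
  haveI := hc
  refine ⟨n₀ + 1, i.image, qP, inferInstance, i.toImage, inferInstance,
    (Scheme.Modules.pullback i.imageι).obj (Twist.twistOver n (Spec (CommRingCat.of A)) 1),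
    n₀.succ_pos, ?_, isAmple_pullback_of_isAffineHom _ hA0, ?_⟩
  · show i.toImage ≫ i.imageι ≫ pr = q
    rw [Scheme.Hom.toImage_imageι_assoc]
    exact hiq
  · exact ⟨(Scheme.Modules.pullbackComp i.toImage i.imageι).app _ ≪≫
      (Scheme.Modules.pullbackCongr i.toImage_imageι).app _ ≪≫ τ.symm⟩

/-- Restriction of functions. -/
abbrev r {X : Scheme.{u}} {U V : X.Opens} (h : V ≤ U) : Γ(X, U) →+* Γ(X, V) :=
  (X.presheaf.map (homOfLE h).op).hom

theorem r_r {X : Scheme.{u}} {U V W : X.Opens} (h : V ≤ U) (h' : W ≤ V) (x : Γ(X, U)) :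
    r h' (r h x) = r (h'.trans h) x := by
  show (X.presheaf.map _ ≫ X.presheaf.map _) x = _
  rw [← Functor.map_comp]; rfl

theorem app_r {X Y : Scheme.{u}} (f : X ⟶ Y) {U V : Y.Opens} (h : V ≤ U) (x : Γ(Y, U)) :
    f.app V (r h x) = r (f.preimage_mono h) (f.app U x) :=
  congr($(f.naturality (homOfLE h).op) x)

/-- Change of transition functions. -/
theorem coeff_transition {X : Scheme.{u}} {P : X.Modules} {Va Vb D D' : X.Opens} {ea : Γ(P, Va)}
    {eb : Γ(P, Vb)} {t : Γ(X, Va ⊓ Vb)}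
    (ht : P.presheaf.map (homOfLE inf_le_left).op ea = t • P.presheaf.map (homOfLE inf_le_right).op eb)
    (hD : D ≤ Va) (hD' : D' ≤ Vb) {ε : Γ(P, D)} {ε' : Γ(P, D')} (hε' : IsGen P ε')
    {w : Γ(X, D)} {w' : Γ(X, D')}
    (hw : P.presheaf.map (homOfLE hD).op ea = w • ε)
    (hw' : P.presheaf.map (homOfLE hD').op eb = w' • ε')
    {u : Γ(X, D ⊓ D')}
    (hu : P.presheaf.map (homOfLE inf_le_left).op ε = u • P.presheaf.map (homOfLE inf_le_right).op ε') :
    r inf_le_left w * u = r (inf_le_inf hD hD') t * r inf_le_right w' := by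
  have e1 := congrArg (P.presheaf.map (homOfLE (inf_le_left : D ⊓ D' ≤ D)).op) hw
  have e2 := congrArg (P.presheaf.map (homOfLE (inf_le_right : D ⊓ D' ≤ D')).op) hw'
  have e3 := congrArg (P.presheaf.map (homOfLE (inf_le_inf hD hD')).op) ht
  rw [Scheme.Modules.map_smul, mres_mres] at e1 e2
  rw [Scheme.Modules.map_smul, mres_mres, mres_mres, e1, e2, hu, smul_smul, smul_smul] at e3
  exact H7Lim.AmpleDescent.coeff_unique (hε'.res inf_le_right) e3

theorem app_chart_eq {X' X Z : Scheme.{u}} (i : Z ⟶ X) (j : X ⟶ X') {P : X.Modules} {N : X'.Modules}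
    (σ : (Scheme.Modules.pullback j).obj N ≅ P) {Va Vb : X.Opens} {ea : Γ(P, Va)} {eb : Γ(P, Vb)}
    {t : Γ(X, Va ⊓ Vb)}
    (ht : P.presheaf.map (homOfLE inf_le_left).op ea = t • P.presheaf.map (homOfLE inf_le_right).op eb)
    {ca : Γ(Z, i ⁻¹ᵁ Va)} {cb : Γ(Z, i ⁻¹ᵁ Vb)}
    (hc : r (i.preimage_mono inf_le_left) ca * i.app _ t = r (i.preimage_mono inf_le_right) cb)
    {A B : X'.Opens} (hA : j ⁻¹ᵁ A ≤ Va) (hB : j ⁻¹ᵁ B ≤ Vb) {eA : Γ(N, A)} {eB : Γ(N, B)}
    (hεB : IsGen P (σ.hom.app (j ⁻¹ᵁ B) (OmegaSh.pullSect j N B eB)))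
    {wA : Γ(X, j ⁻¹ᵁ A)} {wB : Γ(X, j ⁻¹ᵁ B)}
    (hwA : P.presheaf.map (homOfLE hA).op ea = wA • σ.hom.app (j ⁻¹ᵁ A) (OmegaSh.pullSect j N A eA))
    (hwB : P.presheaf.map (homOfLE hB).op eb = wB • σ.hom.app (j ⁻¹ᵁ B) (OmegaSh.pullSect j N B eB))
    {bA : Γ(X', A)} {bB : Γ(X', B)}
    (hbA : i.app _ (j.app A bA) = i.app _ wA * r (i.preimage_mono hA) ca)
    (hbB : i.app _ (j.app B bB) = i.app _ wB * r (i.preimage_mono hB) cb)
    {u : Γ(X', A ⊓ B)}
    (hu : N.presheaf.map (homOfLE inf_le_left).op eA = u • N.presheaf.map (homOfLE inf_le_right).op eB) :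
    i.app _ (j.app _ (r (inf_le_left : A ⊓ B ≤ A) bA * u - r (inf_le_right : A ⊓ B ≤ B) bB)) = 0 := by
  have e4 := congrArg (fun s => σ.hom.app _ (OmegaSh.pullSect j N _ s)) hu
  simp only [OmegaSh.pullSect_smul, Scheme.Modules.Hom.app_smul, pullSect_res, app_map_apply] at e4
  let O := j ⁻¹ᵁ (A ⊓ B)
  have hO : O ≤ Va ⊓ Vb := inf_le_inf hA hB
  have key : r (show O ≤ j ⁻¹ᵁ A from j.preimage_mono inf_le_left) wA * j.app (A ⊓ B) u =
      r hO t * r (show O ≤ j ⁻¹ᵁ B from j.preimage_mono inf_le_right) wB :=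
    coeff_transition (D := j ⁻¹ᵁ A) (D' := j ⁻¹ᵁ B) ht hA hB hεB hwA hwB e4
  have key' : i.app O (r (show O ≤ j ⁻¹ᵁ A from j.preimage_mono inf_le_left) wA) * i.app O (j.app _ u) =
      i.app O (r hO t) * i.app O (r (show O ≤ j ⁻¹ᵁ B from j.preimage_mono inf_le_right) wB) := by
    rw [← map_mul, ← map_mul]; exact congrArg _ key
  rw [app_r i, app_r i, app_r i] at key'
  have hct : r (i.preimage_mono hO) (r (i.preimage_mono inf_le_left) ca) *
      r (i.preimage_mono hO) (i.app _ t) =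
        r (i.preimage_mono hO) (r (i.preimage_mono inf_le_right) cb) := by
    rw [← map_mul, hc]
  rw [map_sub, map_sub, map_mul, map_mul, app_r j, app_r j, app_r i, app_r i, hbA, hbB]
  simp only [map_mul, r_r] at key' hct ⊢
  rw [sub_eq_zero, mul_right_comm, key', ← hct]
  ring

variable {A : Type u} [CommRing A] [IsNoetherianRing A]

theorem exists_extend {X : Scheme.{u}} (q : X ⟶ Spec (CommRingCat.of A)) [LocallyOfFiniteType q]
    [CompactSpace X] {L : X.Modules} (hA : CohB1.IsAmple L) {Z : Scheme.{u}} (i : Z ⟶ X)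
    [IsClosedImmersion i] [IsProper (i ≫ q)] :
    ∃ d k₀ : ℕ, 0 < d ∧ ∀ k, k₀ ≤ k → 0 < k → ∀ (P : X.Modules), Nonempty (P ≅ CohB1.tensorPow L (d * k)) →
      ∀ (G : Gens P) (c : ∀ a, Γ(Z, i ⁻¹ᵁ G.V a)), Compat G i c →
        ∃ (S : Γ(P, ⊤)) (b : ∀ a, Γ(X, G.V a)),
          (∀ a, P.presheaf.map (homOfLE (le_top : G.V a ≤ ⊤)).op S = b a • G.e a) ∧
            (∀ a, i.app (G.V a) (b a) = c a) ∧ IsAffineOpen (gen P S) := by
  obtain ⟨d, X', q', hq', j, hj, M, hd, hjq, hM, ⟨τ⟩⟩ := exists_projective_model q hA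
  haveI := hq'; haveI := hj
  haveI : CompactSpace X' := compactSpace_of_isAmple hM
  haveI : IsSeparated q' := inferInstance
  haveI : X'.IsSeparated := ⟨terminal.comp_from q' ▸ inferInstance⟩
  let z := i ≫ j
  haveI : IsProper (z ≫ q') := by
    rw [show z ≫ q' = i ≫ q by simp [z, hjq]]; infer_instance
  haveI : IsProper z := IsProper.of_comp z q'
  haveI : IsClosedImmersion z := IsClosedImmersion.of_isPreimmersion z z.isClosedMap.isClosed_range
  let B : Closeds X' := ⟨(j.opensRange : Set X')ᶜ, j.opensRange.isOpen.isClosed_compl⟩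
  let I := z.ker ⊓ Scheme.IdealSheafData.vanishingIdeal B
  let iW := I.subschemeι
  obtain ⟨k₀, hk₀⟩ := exists_lift q' hM I
  refine ⟨d, k₀, hd, fun k hk hk0 P ⟨eP⟩ G c hc => ?_⟩
  have hMi := (isAmple_iff.1 hM).1
  have hLi := (isAmple_iff.1 hA).1
  obtain ⟨φ⟩ := exists_iso_pullback_tensorPow j hMi k
  obtain ⟨μ, -⟩ := exists_iso_mul hLi d k
  let σ : (Scheme.Modules.pullback j).obj (CohB1.tensorPow M k) ≅ P :=
    φ ≪≫ Tw.tensorPowIso τ k ≪≫ μ ≪≫ eP.symm
  let N := CohB1.tensorPow M k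
  have hN : PicF.IsInvertible N := isInvertible_tensorPow hMi k
  -- the chart `j`
  let J₁ := Σ a : G.ι, {p : Σ V : X'.Opens, Γ(N, V) // IsGen N p.2 ∧ IsAffineOpen p.1 ∧ p.1 ≤ j ''ᵁ G.V a}
  let J₂ := {p : Σ V : X'.Opens, Γ(N, V) // IsGen N p.2 ∧ IsAffineOpen p.1 ∧ z ⁻¹ᵁ p.1 = ⊥}
  let V' : J₁ ⊕ J₂ → X'.Opens := Sum.elim (fun p => p.2.1.1) (fun p => p.1.1)
  let e' : ∀ p, Γ(N, V' p) := fun p => match p with
    | .inl p => p.2.1.2
    | .inr p => p.1.2
  let G' : Gens N :=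
    { ι := J₁ ⊕ J₂
      V := V'
      e := e'
      cover := fun y => by
        obtain ⟨V, e, hyV, he⟩ := exists_gen hN y
        by_cases hy : y ∈ Set.range z
        · obtain ⟨p, rfl⟩ := hy
          obtain ⟨a, ha⟩ := G.cover (i p)
          obtain ⟨U, hU, hyU, hUle⟩ := exists_isAffineOpen_mem_and_subset
            (x := z p) (U := V ⊓ j ''ᵁ G.V a) ⟨hyV, i p, ha, rfl⟩
          exact ⟨.inl ⟨a, ⟨⟨U, _⟩, he.res (fun w hw => (hUle hw).1 : U ≤ V), hU,
            fun w hw => (hUle hw).2⟩⟩, hyU⟩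
        · let C : X'.Opens := ⟨(Set.range z)ᶜ, z.isClosedMap.isClosed_range.isOpen_compl⟩
          obtain ⟨U, hU, hyU, hUle⟩ := exists_isAffineOpen_mem_and_subset
            (x := y) (U := V ⊓ C) ⟨hyV, hy⟩
          refine ⟨.inr ⟨⟨U, _⟩, he.res (fun w hw => (hUle hw).1 : U ≤ V), hU, ?_⟩, hyU⟩
          exact le_bot_iff.1 fun w hw => ((hUle hw).2 ⟨w, rfl⟩).elim
      isGen := fun p => match p with
        | .inl p => p.2.2.1
        | .inr p => p.2.1
      aff := fun p => match p with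
        | .inl p => p.2.2.2.1
        | .inr p => p.2.2.1 }
  have hle : ∀ p : J₁, j ⁻¹ᵁ p.2.1.1 ≤ G.V p.1 := fun p =>
    (j.preimage_mono p.2.2.2.2).trans (j.preimage_image_eq _).le
  have hsub : ∀ p : J₁, p.2.1.1 ≤ j.opensRange := fun p =>
    p.2.2.2.2.trans (j.image_le_opensRange _)
  have hker : ∀ {V : X'.Opens}, IsAffineOpen V → V ≤ j.opensRange → ∀ b : Γ(X', V),
      z.app V b = 0 → iW.app V b = 0 := by
    intro V hV hVj b hzb
    have hb : b ∈ I.ideal ⟨V, hV⟩ := by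
      rw [Scheme.IdealSheafData.ideal_inf, Pi.inf_apply, Submodule.mem_inf, Scheme.Hom.ker_apply]
      refine ⟨hzb, ?_⟩
      show b ∈ PrimeSpectrum.vanishingIdeal (hV.fromSpec ⁻¹' (B : Set X'))
      rw [PrimeSpectrum.mem_vanishingIdeal]
      intro p hp
      exact (hp (hVj (hV.range_fromSpec.le ⟨p, rfl⟩))).elim
    rw [← Scheme.IdealSheafData.ker_subschemeι_app] at hb
    exact hb
  -- transported generators
  let ε : ∀ p : J₁, Γ(P, j ⁻¹ᵁ p.2.1.1) := fun p =>
    σ.hom.app (j ⁻¹ᵁ p.2.1.1) (OmegaSh.pullSect j N p.2.1.1 p.2.1.2)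
  have hε : ∀ p, IsGen P (ε p) := fun p => isGen_map_iso σ (IsGen.pullSect j p.2.2.1)
  have hv : ∀ p : J₁, ∃ v, ε p = v • P.presheaf.map (homOfLE (hle p)).op (G.e p.1) := fun p =>
    exists_coeff ((G.isGen p.1).res (hle p)) (ε p)
  have hw : ∀ p : J₁, ∃ w, P.presheaf.map (homOfLE (hle p)).op (G.e p.1) = w • ε p := fun p =>
    exists_coeff (hε p) _
  choose v hv using hv
  choose w hw using hw
  have hwv : ∀ p, w p * v p = 1 := fun p => by
    refine H7Lim.AmpleDescent.coeff_unique ((G.isGen p.1).res (hle p)) ?_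
    rw [mul_smul, ← hv p, ← hw p, one_smul]
  -- lifts of the coordinates
  have hlift : ∀ p : J₁, ∃ b : Γ(X', p.2.1.1), i.app _ (j.app _ b) =
      i.app _ (w p) * r (i.preimage_mono (hle p)) (c p.1) := fun p =>
    z.app_surjective _ p.2.2.2.1 _
  choose b₁ hb₁ using hlift
  let b' : ∀ p : G'.ι, Γ(X', V' p) := fun p => match p with
    | .inl p => b₁ p
    | .inr _ => 0
  have hcompat : Compat G' iW (fun p => iW.app _ (b' p)) := by
    intro p p' u hu
    show r (iW.preimage_mono (inf_le_left : V' p ⊓ V' p' ≤ V' p)) (iW.app _ (b' p)) * iW.app _ u =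
      r (iW.preimage_mono (inf_le_right : V' p ⊓ V' p' ≤ V' p')) (iW.app _ (b' p'))
    rw [← app_r iW (inf_le_left : V' p ⊓ V' p' ≤ V' p), ← app_r iW (inf_le_right : V' p ⊓ V' p' ≤ V' p')]
    refine (map_mul (iW.app _).hom _ _).symm.trans (sub_eq_zero.1 ?_)
    rw [← map_sub]
    rcases p with p | p <;> rcases p' with p' | p'
    rotate_right
    · simp [b']
    all_goals refine hker ((G'.aff _).inf (G'.aff _)) ?_ _ ?_
    · exact inf_le_left.trans (hsub p)
    · obtain ⟨t, ht⟩ := transition (ei := G.e p.1) (G.isGen p'.1)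
      exact app_chart_eq i j σ ht (hc p.1 p'.1 t ht) (hle p) (hle p') (hε p') (hw p) (hw p')
        (hb₁ p) (hb₁ p') hu
    · exact inf_le_left.trans (hsub p)
    · haveI : Subsingleton Γ(Z, z ⁻¹ᵁ (G'.V (.inl p) ⊓ G'.V (.inr p'))) := by
        rw [show z ⁻¹ᵁ (G'.V (.inl p) ⊓ G'.V (.inr p')) = ⊥ from
          le_bot_iff.1 ((z.preimage_mono inf_le_right).trans p'.2.2.2.le)]
        infer_instance
      exact Subsingleton.elim _ _
    · exact inf_le_right.trans (hsub p')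
    · haveI : Subsingleton Γ(Z, z ⁻¹ᵁ (G'.V (.inr p) ⊓ G'.V (.inl p'))) := by
        rw [show z ⁻¹ᵁ (G'.V (.inr p) ⊓ G'.V (.inl p')) = ⊥ from
          le_bot_iff.1 ((z.preimage_mono inf_le_left).trans p.2.2.2.le)]
        infer_instance
      exact Subsingleton.elim _ _
  obtain ⟨S', bS, hS', hbS⟩ := hk₀ k hk G' _ hcompat
  -- the locus of generation lies in `X`
  have hgenS : gen N S' ≤ j.opensRange := by
    intro y hy
    by_contra hyj
    obtain ⟨q₀, hyq⟩ := G'.cover y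
    rcases q₀ with q₀ | q₀
    · exact hyj (hsub q₀ hyq)
    · have hyD : y ∈ X'.basicOpen (bS (.inr q₀)) :=
        (gen_inf_eq_basicOpen (G'.isGen _) S' _ (hS' _)).le ⟨hy, hyq⟩
      obtain ⟨y', rfl⟩ : y ∈ Set.range iW := by
        rw [Scheme.IdealSheafData.range_subschemeι]
        exact Scheme.IdealSheafData.support_antitone inf_le_right
          (show y ∈ ((Scheme.IdealSheafData.vanishingIdeal B).support : Set X') by
            rw [Scheme.IdealSheafData.coe_support_vanishingIdeal]; exact hyj)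
      have : y' ∈ iW ⁻¹ᵁ X'.basicOpen (bS (.inr q₀)) := hyD
      rw [Scheme.preimage_basicOpen, hbS] at this
      simp [b'] at this
  let S : Γ(P, ⊤) := σ.hom.app ⊤ (pullTop j S')
  have hgen : gen P S = j ⁻¹ᵁ gen N S' := by
    rw [gen_iso σ.hom]
    have := gen_smul_pullSect j hN S' (isUnit_one (M := Γ(X, ⊤)))
    rwa [one_smul] at this
  have hres : ∀ a, ∃ b : Γ(X, G.V a), P.presheaf.map (homOfLE (le_top : G.V a ≤ ⊤)).op S = b • G.e a :=
    fun a => exists_coeff (G.isGen a) _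
  choose b hb using hres
  refine ⟨S, b, hb, fun a => ?_, ?_⟩
  · refine TopCat.Sheaf.eq_of_locally_eq' Z.sheaf
      (fun p : {p : J₁ // p.1 = a} => i ⁻¹ᵁ j ⁻¹ᵁ p.1.2.1.1) (i ⁻¹ᵁ G.V a)
      (fun p => homOfLE (by obtain ⟨p, rfl⟩ := p; exact i.preimage_mono (hle p)))
      (fun y hy => ?_) _ _ ?_
    · obtain ⟨V, e, hyV, he⟩ := exists_gen hN (z y)
      obtain ⟨U, hU, hyU, hUle⟩ := exists_isAffineOpen_mem_and_subset
        (x := z y) (U := V ⊓ j ''ᵁ G.V a) ⟨hyV, i y, hy, rfl⟩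
      exact Opens.mem_iSup.2 ⟨⟨⟨a, ⟨⟨U, _⟩, he.res (fun w hw => (hUle hw).1 : U ≤ V), hU,
        fun w hw => (hUle hw).2⟩⟩, rfl⟩, hyU⟩
    · rintro ⟨p, rfl⟩
      show r (i.preimage_mono (hle p)) (i.app _ (b p.1)) = r (i.preimage_mono (hle p)) (c p.1)
      have h1 := congrArg (P.presheaf.map (homOfLE (hle p)).op) (hb p.1)
      have h2 := congrArg (fun s => σ.hom.app _ (OmegaSh.pullSect j N _ s)) (hS' (.inl p))
      simp only [OmegaSh.pullSect_smul, Scheme.Modules.Hom.app_smul, pullSect_res, app_map_apply] at h2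
      rw [mres_mres, Scheme.Modules.map_smul] at h1
      erw [show σ.hom.app (j ⁻¹ᵁ p.2.1.1) (OmegaSh.pullSect j N p.2.1.1 p.2.1.2) = _ from hv p,
        smul_smul] at h2
      have hSV : P.presheaf.map (homOfLE (le_top : j ⁻¹ᵁ p.2.1.1 ≤ ⊤)).op S =
          σ.hom.app (j ⁻¹ᵁ p.2.1.1) (OmegaSh.pullSect j N p.2.1.1
            (N.presheaf.map (homOfLE (le_top : p.2.1.1 ≤ ⊤)).op S')) := by
        rw [← pullTop_res, app_map_apply]
      have h3 := H7Lim.AmpleDescent.coeff_unique ((G.isGen p.1).res (hle p))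
        (h1.symm.trans (hSV.trans h2))
      rw [← app_r i (hle p)]
      erw [h3]
      have h4 : z.app p.2.1.1 (bS (.inl p)) = z.app _ (b₁ p) := by
        have h5 : iW.app p.2.1.1 ((show Γ(X', p.2.1.1) from bS (.inl p)) - b₁ p) = 0 := by
          rw [map_sub, sub_eq_zero]; exact hbS (.inl p)
        have h6 : (show Γ(X', p.2.1.1) from bS (.inl p)) - b₁ p ∈ I.ideal ⟨p.2.1.1, p.2.2.2.1⟩ := by
          rw [← Scheme.IdealSheafData.ker_subschemeι_app]; exact h5
        rw [Scheme.IdealSheafData.ideal_inf, Pi.inf_apply, Submodule.mem_inf, Scheme.Hom.ker_apply] at h6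
        exact sub_eq_zero.1 ((map_sub (z.app p.2.1.1).hom _ _).symm.trans h6.1)
      rw [map_mul]
      erw [show i.app _ (j.app _ (bS (.inl p))) = _ from h4.trans (hb₁ p)]
      rw [mul_right_comm, ← map_mul, hwv p, map_one, one_mul]
  · rw [hgen]
    exact (H17.GenAffine.isAffineOpen_gen q' ((isAmple_tensorPow_iff hMi k hk0).1 hM) S').preimage_of_isOpenImmersion
      j hgenS

end Groth.Agent.H06RAmple
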